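import Cfsg.Agent.H94.RG.UStmts
import Cfsg.Agent.H127.RG.L13U

/-!
# S5715 in unbounded rank: `U4` from `L14`
-/

set_option autoImplicit false
set_option linter.unusedSectionVars false

namespace Cfsg.Agent.H94.RG.U

open Module Cfsg.Agent.H847.Bs Cfsg.Agent.H50.RG Cfsg.Agent.LieClassical.OrthCore
open Cfsg.Agent.H440.Bs (perp mem_perp)

theorem u4 (h14 : L14) : U4 := by
  intro F V _ _ _ _ _ Φ e M hΦ hM y hy A hA
  have hfin : Finite (V ≃ₗ[F] V) := Cfsg.Agent.H127.RG.finite_gl F V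
  obtain ⟨Z, A', C, hZ, hZM, hO, h1, h2⟩ := h14 F V Φ e M hΦ hM y hy A hA
  refine ⟨Z, A', C, hZ, hZM, hO, ?_, fun z hz => (h1 z hz).2.2, fun z hz hz1 => ?_⟩
  · have hcyc : IsCyclic Z := by
      have h3 : IsCyclic (Subgroup.zpowers y) := inferInstance
      exact isCyclic_of_injective (Subgroup.inclusion hZ) (Subgroup.inclusion_injective hZ)
    refine ⟨?_, ?_, ?_, hA.dim, fun z hz => (h1 z hz).2.1, fun z hz hz1 => (h2 z hz hz1).1,
      fun z hz hz1 => (h2 z hz hz1).2.1, fun z hz => (h1 z hz).1⟩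
    · obtain ⟨z, hz⟩ := hcyc.exists_generator
      refine ⟨z, le_antisymm (fun w hw => ?_) (by rw [Subgroup.zpowers_le]; exact z.2)⟩
      obtain ⟨k, hk⟩ := Subgroup.mem_zpowers_iff.1 (hz ⟨w, hw⟩)
      exact Subgroup.mem_zpowers_iff.2 ⟨k, by simpa using congrArg Subtype.val hk⟩
    · rintro rfl
      rw [Subgroup.card_bot] at hZM
      omega
    · have hd := Cfsg.Agent.H127.RG.card_dvd_of_free (Z := Z) hA.dim (fun z hz => (h1 z hz).2.1)
        (fun z hz hz1 => (h2 z hz hz1).2.1)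
      classical
      unfold pd
      rw [Finset.mem_filter, Nat.mem_divisors]
      have hq : 1 < Nat.card F := Finite.one_lt_card
      have he2 : 2 ≤ e := hΦ.2.1
      refine ⟨⟨hd, ?_⟩, fun r hr hrZ => ?_⟩
      · have h3 : 1 < Nat.card F ^ e := Nat.one_lt_pow (by omega) hq
        omega
      · have : Fact r.Prime := ⟨hr⟩
        obtain ⟨z, hz⟩ := exists_prime_orderOf_dvd_card' (G := Z) r hrZ
        have hz' : orderOf (z : V ≃ₗ[F] V) = r := by rw [Subgroup.orderOf_coe, hz]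
        have hz1 : (z : V ≃ₗ[F] V) ≠ 1 := by
          intro h
          rw [h, orderOf_one] at hz'
          exact hr.one_lt.ne hz'
        obtain ⟨-, -, -, -, r', hr', hdvd, hord⟩ := h2 z z.2 hz1
        rw [hz'] at hdvd
        rwa [(Nat.prime_dvd_prime_iff_eq hr' hr).1 hdvd] at hord
  · obtain ⟨-, -, h5, h6, h7⟩ := h2 z hz hz1
    exact ⟨h5, h6, h7⟩

end Cfsg.Agent.H94.RG.U
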