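import Cfsg.Agent.H50.RG.LStmts

/-!
# S5714 / S5715, layer L: `L09` (the sum of two irreducible totally isotropic subspaces of different dimensions)
-/

set_option autoImplicit false
set_option linter.unusedSectionVars false

namespace Cfsg.Agent.H94.RG.U

open Module Cfsg.Agent.H847.Bs Cfsg.Agent.H50.RG Cfsg.Agent.LieClassical.OrthCore
open Cfsg.Agent.H440.Bs (perp mem_perp mem_perp' finrank_perp)

section

variable {F V : Type} [Field F] [Finite F] [AddCommGroup V] [Module F V] [Module.Finite F V]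

theorem finite_glv : Finite (V ≃ₗ[F] V) := by
  have : Finite V := Module.finite_of_finite F
  exact Finite.of_injective (fun φ : V ≃ₗ[F] V => (φ : V → V)) DFunLike.coe_injective

/-- the inverse leaves the subspace invariant, too -/
theorem inv_inv {y : V ≃ₗ[F] V} {A : Submodule F V} (h : Inv y A) : Inv y⁻¹ A := by
  have := finite_glv (F := F) (V := V)
  obtain ⟨k, hk⟩ := (isOfFinOrder_of_finite y).mem_powers_iff_mem_zpowers.2
    (Subgroup.mem_zpowers_iff.2 ⟨-1, zpow_neg_one y⟩)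
  rw [← (hk : y ^ k = y⁻¹)]
  clear hk
  induction k with
  | zero => exact fun v hv => hv
  | succ k ih =>
    intro v hv
    show (y ^ (k + 1)) v ∈ A
    rw [pow_succ]
    exact ih _ (h v hv)

theorem perp_inv {Φ : Frm F V} {y : V ≃ₗ[F] V} (hy : y ∈ Φ.Iso) {A : Submodule F V} (h : Inv y A) :
    Inv y (perp Φ A) := by
  intro v hv
  rw [mem_perp] at hv ⊢
  intro a ha
  have h1 := hv (y⁻¹ a) (inv_inv h a ha)
  rw [← hy.1] at h1
  have h2 : y (y⁻¹ a) = a := y.apply_symm_apply a
  rwa [h2] at h1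

theorem orth_or {Φ : Frm F V} (hN : Φ.Nd) {y : V ≃ₗ[F] V} (hy : y ∈ Φ.Iso) {A A' : Submodule F V} (hi : Irr y A)
    (hi' : Irr y A') : (∀ a ∈ A, ∀ a' ∈ A', Φ.B a a' = 0) ∨ finrank F A ≤ finrank F A' := by
  have hinv : Inv y (A ⊓ perp Φ A') := fun v hv => ⟨hi.inv v hv.1, perp_inv hy hi'.inv v hv.2⟩
  rcases hi.min _ inf_le_left hinv with h | h
  · right
    have h1 := Submodule.finrank_sup_add_finrank_inf_eq A (perp Φ A')
    rw [h, finrank_bot, add_zero] at h1
    have h2 := Submodule.finrank_le (A ⊔ perp Φ A')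
    have h3 := finrank_perp Φ hN A'
    omega
  · left
    intro a ha a' ha'
    have h1 : a ∈ A ⊓ perp Φ A' := by
      rw [h]
      exact ha
    exact h1.2 a' ha'

end

theorem l09 : L09 := by
  intro F V _ _ _ _ _ Φ hN y hy A A' hA hA' hi hi' hne
  have h1 : ∀ a ∈ A, ∀ a' ∈ A', Φ.B a a' = 0 := by
    rcases orth_or hN hy hi hi' with h | h
    · exact h
    rcases orth_or hN hy hi' hi with h' | h'
    · exact fun a ha a' ha' => Φ.refl _ _ (h' a' ha' a ha)
    · exact absurd (le_antisymm h h') hne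
  constructor
  · intro x hx z hz
    obtain ⟨a, ha, b, hb, rfl⟩ := Submodule.mem_sup.1 hx
    obtain ⟨c, hc, d, hd, rfl⟩ := Submodule.mem_sup.1 hz
    rw [Φ.add_left, Φ.add_right, Φ.add_right, hA.1 a ha c hc, h1 a ha d hd, Φ.refl _ _ (h1 c hc b hb), hA'.1 b hb d hd]
    ring
  · intro x hx
    obtain ⟨a, ha, b, hb, rfl⟩ := Submodule.mem_sup.1 hx
    rw [Φ.q_add _ _ (h1 a ha b hb), hA.2 a ha, hA'.2 b hb, add_zero]

end Cfsg.Agent.H94.RG.U
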