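import Cfsg.Agent.H50.RG.LStmts

/-!
# S5714 / S5715, layer L: `L12` (at most one good subspace in the linear case)
-/

set_option autoImplicit false
set_option linter.unusedSectionVars false

namespace Cfsg.Agent.H94.RG.U

open Module Cfsg.Agent.H847.Bs Cfsg.Agent.H50.RG

theorem l12 : L12 := by
  intro F V _ _ _ _ _ e M he hlt y s hs
  rw [Finset.card_le_one]
  intro A hA A' hA'
  by_contra hne
  obtain ⟨t1, d1, i1, b1, n1⟩ := hs A hA
  obtain ⟨t2, d2, i2, b2, n2⟩ := hs A' hA'
  have hinf : A ⊓ A' = ⊥ := by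
    have hinv : Inv y (A ⊓ A') := fun v hv => ⟨i1.inv v hv.1, i2.inv v hv.2⟩
    rcases i1.min _ inf_le_left hinv with h | h
    · exact h
    · exfalso
      apply hne
      exact Submodule.eq_of_le_of_finrank_eq (inf_eq_left.1 h) (by rw [d1, d2])
  have hdim : finrank F ↥(A ⊔ A') = 2 * e := by
    have := Submodule.finrank_sup_add_finrank_inf_eq A A'
    rw [hinf, finrank_bot, d1, d2] at this
    omega
  refine n1 (A ⊔ A') (by unfold Prp; omega) ?_ ?_ ?_ ⟨2, by omega⟩
  · intro v hv
    obtain ⟨a, ha, b, hb, rfl⟩ := Submodule.mem_sup.1 hv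
    rw [map_add]
    exact Submodule.add_mem_sup (i1.inv a ha) (i2.inv b hb)
  · refine lt_of_le_of_ne le_sup_left fun h => ?_
    rw [← h, d1] at hdim
    omega
  · intro C hC hAC hCB
    have hinv : Inv y (C ⊓ A') := fun v hv => ⟨hC v hv.1, i2.inv v hv.2⟩
    have hmod : A ⊔ (C ⊓ A') = C := by
      rw [inf_comm, ← sup_inf_assoc_of_le A' hAC]
      exact inf_eq_right.2 hCB
    rcases i2.min _ inf_le_right hinv with h | h
    · left
      rw [← hmod, h, sup_bot_eq]
    · right
      rw [← hmod, h]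

end Cfsg.Agent.H94.RG.U
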