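import Cfsg.Agent.H94.RG.Transf
import Cfsg.Agent.H94.RG.FormU
import Cfsg.Agent.H94.RG.LNine
import Cfsg.Agent.H94.RG.LTwelve
import Cfsg.Agent.H383.RG.Count
import Cfsg.Agent.H383.RG.Conj
import Cfsg.Agent.H961.RG.L03
import Cfsg.Agent.H679.RG.L04
import Cfsg.Agent.H358.RG.WittSp
import Cfsg.Agent.H689.RG.WittH
import Cfsg.Agent.H245.RG.WittQ
import Cfsg.Agent.H755.RG.Sing
import Cfsg.Agent.H84.RG.L10
import Cfsg.Agent.H811.RG.LEleven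
import Cfsg.Agent.H343.RG.Core
import Cfsg.Agent.H361.RG.Free
import Cfsg.Agent.H38.RG.Gen
import Cfsg.Agent.H969.RG.SpGen
import Cfsg.Agent.H462.RG.L18
import Cfsg.Agent.H621.RG.L19
import Cfsg.Agent.H270.RG.NumU
import Cfsg.Agent.H127.RG.L13U

/-!
# S5715 in unbounded rank: `LargeC BigCl`, all pieces together
-/

set_option autoImplicit false

namespace Cfsg.Agent.H94.RG.U

open Cfsg.Agent.H50.RG

theorem l02 : L02 := Cfsg.Agent.H383.RG.rg_L02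
theorem l03 : L03 := Cfsg.Agent.H961.RG.L03_of_L25 Cfsg.Agent.H383.RG.rg_L25
theorem l11 : L11 := Cfsg.Agent.H811.RG.l11 Cfsg.Agent.H84.RG.l10
theorem l15 : L15 := Cfsg.Agent.H361.RG.l15_of Cfsg.Agent.H84.RG.l10
theorem u4' : U4 := u4 (Cfsg.Agent.H343.RG.l14 Cfsg.Agent.H84.RG.l10 Cfsg.Agent.H127.RG.l24)

theorem csl' : CSL := csl l02 l03 Cfsg.Agent.H679.RG.l04 l12 Cfsg.Agent.H38.RG.l16 Cfsg.Agent.H270.RG.u1
  Cfsg.Agent.H383.RG.rg_U2 Cfsg.Agent.H127.RG.u3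

theorem csp' : CSp := csp l02 l03 Cfsg.Agent.H358.RG.l05 Cfsg.Agent.H755.RG.Sing.l08 l09 l11 l15
  Cfsg.Agent.H969.RG.l17 Cfsg.Agent.H270.RG.u1 Cfsg.Agent.H383.RG.rg_U2 u4'

theorem csu' : CSU := csu l02 l03 Cfsg.Agent.H689.RG.l06 Cfsg.Agent.H755.RG.Sing.l08 l09 l11 l15
  Cfsg.Agent.H462.RG.l18 Cfsg.Agent.H270.RG.u1 Cfsg.Agent.H383.RG.rg_U2 u4'

theorem com' : COm := com l02 l03 Cfsg.Agent.H245.RG.rg_l07 Cfsg.Agent.H755.RG.Sing.l08 l09 l11 l15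
  Cfsg.Agent.H621.RG.l19 Cfsg.Agent.H270.RG.u1 Cfsg.Agent.H383.RG.rg_U2 u4'

/-- **`CMix` for all named classical groups of large rank.** -/
theorem largeC : LargeC Cfsg.Agent.H851.Dg.BigCl := large_c csl' csp' csu' com'

end Cfsg.Agent.H94.RG.U
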