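import Mathlib

/-!
# S5715: averaging over the generators of a cyclic group

If `B` is a subset of a finite group `G` and `x₁` runs through the generators of the cyclic group `⟨x⟩`,
then the numbers `#{y | y x₁ y⁻¹ ∈ B}` have the sum at most `|N_G(⟨x⟩)| |B|`.
-/

set_option autoImplicit false

namespace Cfsg.Agent.H94.RG

open Subgroup

variable {G : Type*} [Group G] [Finite G]

/-- pairs `(x₁, y)`, `x₁` a generator of `X`, `y x₁ y⁻¹ ∈ B` -/
theorem card_pairs_le (X : Subgroup G) (B : Set G) :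
    Nat.card {a : G × G // zpowers a.1 = X ∧ a.2 * a.1 * a.2⁻¹ ∈ B} ≤
      Nat.card (normalizer (X : Set G)) * Nat.card B := by
  classical
  have : Finite B := Finite.of_injective _ Subtype.val_injective
  -- map to `B × N` : `(x₁, y) ↦ (b, n)`, `n = y₀(b)⁻¹ y` for a chosen pair with the same `b`
  let S := {a : G × G // zpowers a.1 = X ∧ a.2 * a.1 * a.2⁻¹ ∈ B}
  have hex : ∀ s : S, ∃ t : S, t.1.2 * t.1.1 * t.1.2⁻¹ = s.1.2 * s.1.1 * s.1.2⁻¹ := fun s => ⟨s, rfl⟩
  let f : S → B := fun s => ⟨s.1.2 * s.1.1 * s.1.2⁻¹, s.2.2⟩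
  let c : (Set.range f) → S := fun b => Classical.choose b.2
  have hc : ∀ b : Set.range f, f (c b) = b.1 := fun b => Classical.choose_spec b.2
  have hn : ∀ s : S, (c ⟨f s, s, rfl⟩).1.2⁻¹ * s.1.2 ∈ normalizer (X : Set G) := by
    intro s
    set t := c ⟨f s, s, rfl⟩ with ht
    have h1 : f t = f s := hc ⟨f s, s, rfl⟩
    have h2 : t.1.2 * t.1.1 * t.1.2⁻¹ = s.1.2 * s.1.1 * s.1.2⁻¹ := congrArg Subtype.val h1
    have h3 : (t.1.2⁻¹ * s.1.2) * s.1.1 * (t.1.2⁻¹ * s.1.2)⁻¹ = t.1.1 := by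
      have : (t.1.2⁻¹ * s.1.2) * s.1.1 * (t.1.2⁻¹ * s.1.2)⁻¹ =
          t.1.2⁻¹ * (s.1.2 * s.1.1 * s.1.2⁻¹) * t.1.2 := by group
      rw [this, ← h2]; group
    -- conjugation by `n` maps the generator `s.1.1` of `X` to the generator `t.1.1`
    set n := t.1.2⁻¹ * s.1.2 with hndef
    have hmap : X.map (MulAut.conj n).toMonoidHom = X := by
      have hx : zpowers s.1.1 = X := s.2.1
      have hy : zpowers t.1.1 = X := t.2.1
      have h5 : (MulAut.conj n).toMonoidHom s.1.1 = t.1.1 := by simpa using h3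
      calc X.map (MulAut.conj n).toMonoidHom = (zpowers s.1.1).map (MulAut.conj n).toMonoidHom := by rw [hx]
        _ = zpowers ((MulAut.conj n).toMonoidHom s.1.1) := MonoidHom.map_zpowers _ _
        _ = X := by rw [h5, hy]
    rw [mem_normalizer_iff]
    intro h
    constructor
    · intro hh
      have : (MulAut.conj n).toMonoidHom h ∈ X.map (MulAut.conj n).toMonoidHom := mem_map_of_mem _ hh
      rw [hmap] at this
      simpa using this
    · intro hh
      rw [← hmap, mem_map] at hh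
      obtain ⟨k, hk, hk2⟩ := hh
      have : k = h := by
        have h6 : n * k * n⁻¹ = n * h * n⁻¹ := by simpa using hk2
        have := mul_right_cancel h6
        exact mul_left_cancel this
      rwa [← this]
  let g : S → normalizer (X : Set G) × B := fun s => (⟨_, hn s⟩, f s)
  have hg : Function.Injective g := by
    intro s t h
    have h1 : f s = f t := congrArg Prod.snd h
    have h2 : (c ⟨f s, s, rfl⟩).1.2⁻¹ * s.1.2 = (c ⟨f t, t, rfl⟩).1.2⁻¹ * t.1.2 :=
      congrArg Subtype.val (congrArg Prod.fst h)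
    have h3 : (⟨f s, s, rfl⟩ : Set.range f) = ⟨f t, t, rfl⟩ := Subtype.ext h1
    rw [h3] at h2
    have h4 : s.1.2 = t.1.2 := mul_left_cancel h2
    have h5 : s.1.2 * s.1.1 * s.1.2⁻¹ = t.1.2 * t.1.1 * t.1.2⁻¹ := congrArg Subtype.val h1
    rw [h4] at h5
    have h6 : s.1.1 = t.1.1 := mul_left_cancel (mul_right_cancel h5)
    exact Subtype.ext (Prod.ext h6 h4)
  have h := Nat.card_le_card_of_injective g hg
  rwa [Nat.card_prod] at h

end Cfsg.Agent.H94.RG
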