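import Cfsg.Agent.H94.RG.Conj

/-!
# S5715 in unbounded rank: the property `CMix` and its proof from the layer L

`CMix S κ ε` : for all but a proportion `ε` of the `y ∈ S` the cyclic group `⟨y⟩` contains a conjugate of one of
finitely many subgroups `Z i`, where `R i dim V^(Z i) ≤ 2 dim V` for all complex representations `V` without fixed
vectors and `∑ 1 / R i ≤ κ`.
-/

set_option autoImplicit false
set_option linter.unusedSectionVars false

namespace Cfsg.Agent.H94.RG.U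

open Module Cfsg.Agent.H847.Bs Cfsg.Agent.H50.RG Cfsg.Agent.LieClassical.OrthCore
open Cfsg.Agent.H440.Bs (perp mem_perp mem_perp')

/-- most cyclic subgroups contain a conjugate of one of few good subgroups -/
def CMix (S : Type*) [Group S] (κ ε : ℝ) : Prop :=
  ∃ (ι : Type) (_ : Fintype ι) (Z : ι → Subgroup S) (R : ι → ℝ), (∀ i, 0 < R i) ∧ ∑ i, 1 / R i ≤ κ ∧
    (∀ (i : ι) (n : ℕ) (ρ : Representation ℂ S (Fin n → ℂ)), fixd ρ ⊤ = ⊥ → R i * finrank ℂ (fixd ρ (Z i)) ≤ 2 * n) ∧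
    (Nat.card {y : S // ¬ ∃ (i : ι) (g : S), ∀ z ∈ Z i, g * z * g⁻¹ ∈ Subgroup.zpowers y} : ℝ) ≤ ε * Nat.card S

/-- the Frobenius trick, in a subgroup `G` of an ambient group -/
theorem frob_of_free {A : Type*} [Group A] [Finite A] {G Z Q₁ Q₂ : Subgroup A} (hZG : Z ≤ G)
    (h1 : Free Z Q₁) (h2 : Free Z Q₂) (hgen : Q₁ ⊔ Q₂ = G) (n : ℕ) (ρ : Representation ℂ G (Fin n → ℂ))
    (h0 : fixd ρ ⊤ = ⊥) : Nat.card Z * finrank ℂ (fixd ρ (Z.subgroupOf G)) ≤ 2 * n := by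
  have hQ1 : Q₁ ≤ G := le_sup_left.trans hgen.le
  have hQ2 : Q₂ ≤ G := le_sup_right.trans hgen.le
  have hF : ∀ {Q : Subgroup A}, Free Z Q → (∀ z ∈ Z.subgroupOf G, ∀ q ∈ Q.subgroupOf G, z * q * z⁻¹ ∈ Q.subgroupOf G) ∧
      ∀ z ∈ Z.subgroupOf G, z ≠ 1 → ∀ q ∈ Q.subgroupOf G, z * q = q * z → q = 1 := by
    rintro Q ⟨ha, hb⟩
    refine ⟨fun z hz q hq => ?_, fun z hz hz1 q hq hc => ?_⟩
    · rw [Subgroup.mem_subgroupOf] at hz hq ⊢
      exact ha _ hz _ hq
    · rw [Subgroup.mem_subgroupOf] at hz hq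
      have h3 : (z : A) ≠ 1 := fun h => hz1 (Subtype.ext h)
      have h4 : (z : A) * q = q * z := congrArg Subtype.val hc
      exact Subtype.ext (hb _ hz h3 _ hq (by rw [h4, mul_inv_cancel_right]))
  obtain ⟨ha1, hb1⟩ := hF h1
  obtain ⟨ha2, hb2⟩ := hF h2
  have key := frob_trick ρ (Z.subgroupOf G) (Q₁.subgroupOf G) (Q₂.subgroupOf G) ha1 hb1 ha2 hb2
    (by rw [← Subgroup.subgroupOf_sup hQ1 hQ2, hgen, Subgroup.subgroupOf_self]) h0
  rwa [Nat.card_congr (Subgroup.subgroupOfEquivOfLe hZG).toEquiv, Module.finrank_fintype_fun_eq_card,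
    Fintype.card_fin] at key

/-- the properties of the standard subgroups in dimension `e` -/
structure Std {F V : Type} [Field F] [AddCommGroup V] [Module F V] (G : Subgroup (V ≃ₗ[F] V))
    (TS : Submodule F V → Prop) (e : ℕ) (St : Subgroup (V ≃ₗ[F] V) → Prop) : Prop where
  le : ∀ Z, St Z → Z ≤ G
  pd : ∀ Z, St Z → Nat.card Z ∈ pd (Nat.card F) e
  frob : ∀ Z, St Z → ∀ (n : ℕ) (ρ : Representation ℂ G (Fin n → ℂ)), fixd ρ ⊤ = ⊥ →
    Nat.card Z * finrank ℂ (fixd ρ (Z.subgroupOf G)) ≤ 2 * n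
  cls : ∀ Z Z', St Z → St Z' → Nat.card Z = Nat.card Z' → ∃ g ∈ G, ∀ z ∈ Z, g * z * g⁻¹ ∈ Z'
  ex : ∀ M : ℕ, 2 ≤ M → ∀ y ∈ G, ∀ A, Gd TS e M y A → ∃ Z, St Z ∧ Z ≤ Subgroup.zpowers y ∧ M ≤ Nat.card Z

/-- `CMix` from the standard subgroups -/
theorem cmix_of {F V : Type} [Field F] [Finite F] [AddCommGroup V] [Module F V] [Module.Finite F V]
    {G : Subgroup (V ≃ₗ[F] V)} {TS : Submodule F V → Prop} {I : Finset ℕ} {M : ℕ → ℕ}
    {St : ℕ → Subgroup (V ≃ₗ[F] V) → Prop} (hM : ∀ e ∈ I, 2 ≤ M e) (hSt : ∀ e ∈ I, Std G TS e (St e)) {κ ε : ℝ}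
    (hbad : (noGM G TS M I : ℝ) ≤ ε * Nat.card G)
    (hκ : ∑ e ∈ I, ((pd (Nat.card F) e).card : ℝ) / M e ≤ κ) : CMix G κ ε := by
  classical
  have : Finite (V ≃ₗ[F] V) := finite_glV
  let P : (Σ e : I, pd (Nat.card F) e) → Prop := fun p => ∃ Z, St p.1 Z ∧ Nat.card Z = p.2 ∧ M p.1 ≤ Nat.card Z
  let W : {p // P p} → Subgroup (V ≃ₗ[F] V) := fun p => p.2.choose
  have hW : ∀ p : {p // P p}, St p.1.1 (W p) ∧ Nat.card (W p) = p.1.2 ∧ M p.1.1 ≤ Nat.card (W p) :=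
    fun p => p.2.choose_spec
  have hMpos : ∀ p : {p // P p}, 0 < M p.1.1 := fun p => by
    have := hM _ p.1.1.2
    omega
  refine ⟨{p // P p}, inferInstance, fun p => (W p).subgroupOf G, fun p => (Nat.card (W p) : ℝ), fun p => ?_, ?_, ?_, ?_⟩
  · have h1 := hMpos p
    have h2 := (hW p).2.2
    have h3 : (0 : ℝ) < Nat.card (W p) := by exact_mod_cast (show 0 < Nat.card (W p) by omega)
    exact h3
  · refine le_trans ?_ hκ
    have h1 : ∑ p : {p // P p}, 1 / (Nat.card (W p) : ℝ) ≤ ∑ p : {p // P p}, 1 / (M p.1.1 : ℝ) := by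
      refine Finset.sum_le_sum fun p _ => ?_
      have h3 : (0 : ℝ) < M p.1.1 := by exact_mod_cast hMpos p
      exact one_div_le_one_div_of_le h3 (by exact_mod_cast (hW p).2.2)
    have h2 : ∑ p : {p // P p}, 1 / (M p.1.1 : ℝ) ≤ ∑ p : (Σ e : I, pd (Nat.card F) e), 1 / (M p.1 : ℝ) := by
      have e1 : ∑ p : {p // P p}, 1 / (M p.1.1 : ℝ) = ∑ p ∈ Finset.univ.filter P, 1 / (M p.1 : ℝ) :=
        (Finset.sum_subtype (Finset.univ.filter P) (by simp) (fun p => 1 / (M p.1 : ℝ))).symm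
      rw [e1]
      exact Finset.sum_le_sum_of_subset_of_nonneg (Finset.filter_subset _ _) fun p _ _ => by positivity
    refine h1.trans (h2.trans (le_of_eq ?_))
    rw [Fintype.sum_sigma, ← Finset.sum_coe_sort I]
    refine Finset.sum_congr rfl fun e _ => ?_
    have e2 : ∑ _y : pd (Nat.card F) e, 1 / (M e : ℝ) = ((pd (Nat.card F) e).card : ℝ) / M e := by
      rw [Finset.sum_const, Finset.card_univ, Fintype.card_coe, nsmul_eq_mul]
      ring
    exact e2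
  · intro p n ρ h0
    have h1 : (Nat.card (W p) : ℝ) * finrank ℂ (fixd ρ ((W p).subgroupOf G)) ≤ 2 * n := by
      exact_mod_cast (hSt _ p.1.1.2).frob _ (hW p).1 n ρ h0
    exact h1
  · refine le_trans ?_ hbad
    have h1 : Nat.card {y : G // ¬ ∃ (i : {p // P p}) (g : G), ∀ z ∈ (W i).subgroupOf G, g * z * g⁻¹ ∈
        Subgroup.zpowers y} ≤ noGM G TS M I := by
      unfold noGM
      refine Nat.card_le_card_of_injective (fun y => ⟨y.1.1, y.1.2, ?_⟩) fun y y' h => ?_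
      · rintro ⟨e, he, A, hA⟩
        apply y.2
        obtain ⟨Z, hZ, hZy, hMZ⟩ := (hSt e he).ex (M e) (hM e he) y.1.1 y.1.2 A hA
        let p : {p // P p} := ⟨⟨⟨e, he⟩, ⟨Nat.card Z, (hSt e he).pd Z hZ⟩⟩, Z, hZ, rfl, hMZ⟩
        obtain ⟨g, hg, hgg⟩ := (hSt e he).cls (W p) Z (hW p).1 hZ (hW p).2.1
        refine ⟨p, ⟨g, hg⟩, fun z hz => ?_⟩
        have h2 := hZy (hgg z (Subgroup.mem_subgroupOf.1 hz))
        obtain ⟨k, hk⟩ := Subgroup.mem_zpowers_iff.1 h2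
        exact Subgroup.mem_zpowers_iff.2 ⟨k, Subtype.ext (by simpa using hk)⟩
      · have h4 : (y.1 : V ≃ₗ[F] V) = y'.1 := congrArg
          (fun z : {y : V ≃ₗ[F] V // y ∈ G ∧ ¬ ∃ e ∈ I, ∃ A, Gd TS e (M e) y A} => z.1) h
        exact Subtype.ext (Subtype.ext h4)
    exact_mod_cast h1

/-- the common part: `k₀` is the bound for the frames, `par` the parity -/
theorem common (h02 : L02) (h03 : L03) (hU1 : U1) (ε : ℝ) (C par : ℕ) (hε : 0 < ε) : ∃ N₀ : ℕ,
    ∀ (F V : Type) [Field F] [Finite F] [AddCommGroup V] [Module F V] [Module.Finite F V]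
    (G : Subgroup (V ≃ₗ[F] V)) (TS : Submodule F V → Prop) (k₀ : ℕ), N₀ ≤ finrank F V → k₀ ≤ finrank F V →
    (finrank F V - 3) / 2 ≤ k₀ →
    (∀ A B, A ≤ B → TS B → TS A) → FT G TS k₀ → (∃ A, TS A ∧ finrank F A = k₀) →
    (∀ g ∈ G, ∀ A, TS A → TS (A.map (g : V →ₗ[F] V))) →
    (∀ y ∈ G, ∀ A A', TS A → TS A' → Irr y A → Irr y A' → finrank F A ≠ finrank F A' →
      finrank F A + finrank F A' < finrank F V → TS (A ⊔ A')) →
    (∀ e M, 3 ≤ e → e % 2 = par % 2 → 2 * e < finrank F V → 2 ≤ M → ∀ y ∈ G, ∀ s : Finset (Submodule F V),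
      (∀ A ∈ s, Gd TS e M y A) → s.card ≤ 2) →
    (∀ e, ¬ e ∣ (finrank F V - 1) / 2 → ¬ e ∣ (finrank F V + 1) / 2 → ∀ B, TS B → e ∣ finrank F B →
      finrank F B ≤ k₀) →
    (∀ e, 3 ≤ e → e % 2 = par % 2 → 4 * e + 8 ≤ finrank F V → ¬ e ∣ finrank F V → e ≤ k₀ →
      ∃ St, Std G TS e St) →
    CMix G (1 / ((finrank F V : ℝ) ^ 2 * Real.log (Nat.card F)) ^ C) ε := by
  set η : ℝ := min (1 / 2) (ε / 16) with hηdef
  have hη0 : 0 < η := by positivity
  obtain ⟨N₀, hN₀⟩ := hU1 (16 / ε) η C par hη0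
  refine ⟨N₀ + 1, fun F V _ _ _ _ _ G TS k₀ hn hk1 hk2 hh hFT hex hT hH1 hH2 hH3 hSt => ?_⟩
  have hfin : Finite (V ≃ₗ[F] V) := finite_glV
  have hq : 2 ≤ Nat.card F := Finite.one_lt_card
  obtain ⟨I, M, hI, hK⟩ := hN₀ (finrank F V) (Nat.card F) (by omega) hq
  set x : ℕ → ℝ := fun e => (Nat.card {g : GL (Fin e) F // IrrM F g ∧ BigM F e (M e) g} : ℝ) / Nat.card (GL (Fin e) F)
    with hx
  have hGL : ∀ e, (0 : ℝ) < Nat.card (GL (Fin e) F) := fun e => by exact_mod_cast Nat.card_pos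
  have h1 := l01M F V G TS k₀ M I x η hh hFT hex hT
    (fun e he => by
      obtain ⟨a0, a1, a2, a3, -⟩ := hI e he
      omega)
    (fun e he e' he' hne y hy A A' hA hA' hi hi' hd hd' => hH1 y hy A A' hA hA' hi hi' (by omega) (by
      obtain ⟨a0, a1, a2, a3, -⟩ := hI e he
      obtain ⟨b0, b1, b2, b3, -⟩ := hI e' he'
      omega))
    (fun e he y hy s hs => by
      obtain ⟨a0, a1, a2, a3, -⟩ := hI e he
      exact hH2 e (M e) a1 a2 (by omega) a0 y hy s hs)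
    (fun e he B hB hdiv => by
      obtain ⟨a0, a1, a2, a3, a4, a5, a6, -⟩ := hI e he
      exact hH3 e a5 a6 B hB hdiv)
    (fun d hd => h02 F d hd)
    (fun e he => by
      rw [hx]
      exact div_mul_cancel₀ _ (hGL e).ne')
    hη0.le
    (fun e he => by
      obtain ⟨a0, a1, a2, a3, a4, a5, a6, a7, a8, a9⟩ := hI e he
      refine le_trans (Finset.sum_le_sum_of_subset_of_nonneg (Finset.range_mono hk1) fun i _ _ => ?_) a8
      positivity)
    ((min_le_left _ _).trans (by norm_num))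
  have hS : 16 / ε ≤ ∑ e ∈ I, x e := by
    refine hK.trans (Finset.sum_le_sum fun e he => ?_)
    obtain ⟨a0, a1, a2, a3, a4, a5, a6, a7, a8, a9⟩ := hI e he
    have h2 := h03 F e (M e) a1 a0 a7
    have h3 : (Nat.card (GL (Fin e) F) : ℝ) ≤
        2 * e * Nat.card {g : GL (Fin e) F // IrrM F g ∧ BigM F e (M e) g} := by
      exact_mod_cast h2
    have he0 : (0 : ℝ) < e := by exact_mod_cast (show 0 < e by omega)
    rw [hx]
    rw [div_le_div_iff₀ (by positivity) (hGL e)]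
    linarith
  have h2 := num_fin hε (Nat.cast_nonneg _) (Nat.cast_nonneg _) hη0.le (min_le_left _ _) (by
    have : η ≤ ε / 16 := min_le_right _ _
    linarith) hS h1
  have hch : ∀ e : ℕ, ∃ St, e ∈ I → Std G TS e St := by
    intro e
    by_cases he : e ∈ I
    · obtain ⟨a0, a1, a2, a3, a4, a5, a6, a7, a8, a9⟩ := hI e he
      obtain ⟨St, h⟩ := hSt e a1 a2 a3 a4 (by omega)
      exact ⟨St, fun _ => h⟩
    · exact ⟨fun _ => False, fun h => absurd h he⟩
  choose St hSt' using hch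
  refine cmix_of (fun e he => (hI e he).1) (fun e he => hSt' e he) h2 ?_
  have hn0 : (0 : ℝ) < finrank F V := by exact_mod_cast (show 0 < finrank F V by omega)
  have hlog : 0 < Real.log (Nat.card F) := Real.log_pos (by exact_mod_cast (show 1 < Nat.card F by omega))
  set L : ℝ := ((finrank F V : ℝ) ^ 2 * Real.log (Nat.card F)) ^ C with hL
  have hL0 : 0 < L := by positivity
  have h3 : ∀ e ∈ I, ((pd (Nat.card F) e).card : ℝ) / M e ≤ 1 / (finrank F V * L) := by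
    intro e he
    obtain ⟨a0, a1, a2, a3, a4, a5, a6, a7, a8, a9⟩ := hI e he
    have hM0 : (0 : ℝ) < M e := by exact_mod_cast (show 0 < M e by omega)
    rw [div_le_div_iff₀ hM0 (by positivity)]
    linarith
  refine (Finset.sum_le_sum h3).trans ?_
  rw [Finset.sum_const, nsmul_eq_mul]
  have h4 : (I.card : ℝ) ≤ finrank F V := by
    have : I.card ≤ (Finset.range (finrank F V)).card := Finset.card_le_card fun e he => by
      obtain ⟨a0, a1, a2, a3, -⟩ := hI e he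
      rw [Finset.mem_range]
      omega
    rw [Finset.card_range] at this
    exact_mod_cast this
  calc (I.card : ℝ) * (1 / (finrank F V * L)) ≤ finrank F V * (1 / (finrank F V * L)) :=
        mul_le_mul_of_nonneg_right h4 (by positivity)
    _ = 1 / L := by field_simp

end Cfsg.Agent.H94.RG.U
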