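import Mathlib

/-!
# Elements of small order in a cyclic group (S5714 / S5715)

In a cyclic group `C` of order `N` the average of `log (N / orderOf x)` is at most
`∑_{p ∣ N} log p / (p - 1) ≤ (1 + log (ω + 1)) ^ 2`, `ω` the number of primes dividing `N`.
Consequence `card_index_ge`: all but a proportion `(1 + log (1 + log₂ N)) ^ 2 / log L` of the elements
have order `> N / L`.
-/

set_option autoImplicit false

namespace Cfsg.Agent.H94.RG

open Finset

theorem sum_le_of_antitone {f : ℕ → ℝ} (hf : ∀ a b, 2 ≤ a → a ≤ b → f b ≤ f a) (S : Finset ℕ)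
    (hS : ∀ s ∈ S, 2 ≤ s) : ∑ s ∈ S, f s ≤ ∑ k ∈ range S.card, f (k + 2) := by
  classical
  induction' hn : S.card with n ih generalizing S
  · rw [card_eq_zero.1 hn]; simp
  · have hne : S.Nonempty := card_pos.1 (by omega)
    set M := S.max' hne with hM
    have hMS : M ∈ S := S.max'_mem hne
    have hMn : n + 2 ≤ M := by
      -- `S ⊆ [2, M]`
      have h1 : S ⊆ Icc 2 M := fun s hs => mem_Icc.2 ⟨hS s hs, S.le_max' s hs⟩
      have h2 := card_le_card h1
      rw [Nat.card_Icc, hn] at h2
      omega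
    rw [← add_sum_erase S f hMS, sum_range_succ, add_comm]
    have h3 : (S.erase M).card = n := by rw [card_erase_of_mem hMS, hn]; rfl
    exact add_le_add (ih (S.erase M) (fun s hs => hS s (mem_of_mem_erase hs)) h3)
      (hf _ _ (by omega) hMn)

theorem log_div_antitone (a b : ℕ) (ha : 2 ≤ a) (hab : a ≤ b) :
    Real.log b / (b - 1 : ℝ) ≤ Real.log a / (a - 1 : ℝ) := by
  have ha1 : (1 : ℝ) < a := by exact_mod_cast (by omega : 1 < a)
  have hb1 : (1 : ℝ) < b := by exact_mod_cast (by omega : 1 < b)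
  rcases eq_or_lt_of_le hab with h | h
  · rw [h]
  have hab' : (a : ℝ) < b := by exact_mod_cast h
  rw [div_le_div_iff₀ (by linarith) (by linarith)]
  -- log b = log a + log (b/a), log (b/a) ≤ b/a - 1, log a ≥ 1 - 1/a
  have h1 : Real.log b = Real.log a + Real.log (b / a) := by
    rw [Real.log_div (by linarith) (by linarith)]; ring
  have h2 : Real.log (b / a) ≤ b / a - 1 := Real.log_le_sub_one_of_pos (by positivity)
  have h3 : 1 - 1 / (a : ℝ) ≤ Real.log a := by
    have := Real.one_sub_inv_le_log_of_pos (show (0 : ℝ) < a by linarith)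
    rwa [← one_div] at this
  have h4 : Real.log (b / a) * (a - 1) ≤ (b - a) * Real.log a := by
    have h5 : Real.log (b / a) * (a - 1) ≤ (b / a - 1) * (a - 1) :=
      mul_le_mul_of_nonneg_right h2 (by linarith)
    have h6 : (b / a - 1) * (a - 1) = (b - a) * (1 - 1 / (a : ℝ)) := by
      field_simp
    have h7 : (b - a) * (1 - 1 / (a : ℝ)) ≤ (b - a) * Real.log a :=
      mul_le_mul_of_nonneg_left h3 (by linarith)
    linarith
  rw [h1]
  nlinarith

theorem sum_log_div (N : ℕ) :
    ∑ p ∈ N.primeFactors, Real.log p / (p - 1 : ℝ) ≤ (1 + Real.log (N.primeFactors.card + 1)) ^ 2 := by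
  have h := sum_le_of_antitone (f := fun n => Real.log n / (n - 1 : ℝ))
    (fun a b ha hab => log_div_antitone a b ha hab) N.primeFactors
    (fun p hp => (Nat.prime_of_mem_primeFactors hp).two_le)
  refine h.trans ?_
  set w := N.primeFactors.card with hw
  have h1 : ∀ k ∈ range w, Real.log ((k + 2 : ℕ) : ℝ) / (((k + 2 : ℕ) : ℝ) - 1) ≤
      Real.log (w + 1) * (1 / (k + 1 : ℝ)) := by
    intro k hk
    rw [mem_range] at hk
    have e1 : (((k + 2 : ℕ) : ℝ) - 1) = k + 1 := by push_cast; ring
    rw [e1, div_eq_mul_one_div]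
    apply mul_le_mul_of_nonneg_right _ (by positivity)
    apply Real.log_le_log (by positivity)
    have : (k + 2 : ℕ) ≤ w + 1 := by omega
    exact_mod_cast this
  refine (sum_le_sum h1).trans ?_
  rw [← mul_sum]
  rcases Nat.eq_zero_or_pos w with h0 | h0
  · rw [h0]; simp
  have h2 : ∑ k ∈ range w, (1 / (k + 1 : ℝ)) ≤ 1 + Real.log w := by
    have := harmonic_le_one_add_log w
    refine le_trans (le_of_eq ?_) this
    rw [harmonic]
    push_cast
    exact sum_congr rfl fun k _ => by rw [one_div]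
  have h3 : Real.log w ≤ Real.log (w + 1) :=
    Real.log_le_log (by exact_mod_cast h0) (by linarith)
  have h4 : 0 ≤ Real.log ((w : ℝ) + 1) := Real.log_nonneg (by
    have : (0 : ℝ) ≤ w := Nat.cast_nonneg w
    linarith)
  calc Real.log (w + 1) * ∑ k ∈ range w, (1 / (k + 1 : ℝ))
      ≤ Real.log (w + 1) * (1 + Real.log (w + 1)) := mul_le_mul_of_nonneg_left (h2.trans (by linarith)) h4
    _ ≤ (1 + Real.log (w + 1)) ^ 2 := by nlinarith

theorem log_eq_sum {N m : ℕ} (hN : N ≠ 0) (hm : m ∣ N) :
    Real.log m = ∑ p ∈ N.primeFactors, ∑ a ∈ Icc 1 (N.factorization p),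
      if p ^ a ∣ m then Real.log p else 0 := by
  have hm0 : m ≠ 0 := fun h => hN (Nat.eq_zero_of_zero_dvd (h ▸ hm))
  rw [Real.log_nat_eq_sum_factorization, Finsupp.sum]
  rw [Nat.support_factorization]
  have hsub : m.primeFactors ⊆ N.primeFactors := Nat.primeFactors_mono hm hN
  rw [sum_subset hsub (by
    intro p _ hp
    have : m.factorization p = 0 := by
      rw [← Finsupp.notMem_support_iff, Nat.support_factorization]; exact hp
    rw [this]; simp)]
  refine sum_congr rfl fun p hp => ?_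
  have hpp := Nat.prime_of_mem_primeFactors hp
  rw [← sum_filter, sum_const, nsmul_eq_mul]
  congr 1
  have hle : m.factorization p ≤ N.factorization p := (Nat.factorization_le_iff_dvd hm0 hN).2 hm p
  have : (Icc 1 (N.factorization p)).filter (fun a => p ^ a ∣ m) = Icc 1 (m.factorization p) := by
    ext a
    simp only [mem_filter, mem_Icc]
    rw [hpp.pow_dvd_iff_le_factorization hm0]
    omega
  rw [this, Nat.card_Icc]
  simp

theorem card_pow_dvd_index {C : Type*} [CommGroup C] [IsCyclic C] [Fintype C] [DecidableEq C] {p a : ℕ}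
    (hpa : p ^ a ∣ Fintype.card C) :
    (univ.filter fun x : C => p ^ a ∣ Fintype.card C / orderOf x).card * p ^ a ≤ Fintype.card C := by
  classical
  obtain ⟨k, hk⟩ := hpa
  have hN : 0 < Fintype.card C := Fintype.card_pos
  have hp0 : 0 < p ^ a := Nat.pos_of_ne_zero fun h => by rw [h] at hk; omega
  have hk0 : 0 < k := Nat.pos_of_ne_zero fun h => by rw [h] at hk; omega
  have h1 : (univ.filter fun x : C => p ^ a ∣ Fintype.card C / orderOf x) ⊆
      univ.filter fun x : C => x ^ k = 1 := by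
    intro x hx
    rw [mem_filter] at hx ⊢
    refine ⟨mem_univ _, ?_⟩
    obtain ⟨t, ht⟩ := hx.2
    have ho : orderOf x ∣ Fintype.card C := orderOf_dvd_card
    have h2 : orderOf x * (p ^ a * t) = Fintype.card C := by rw [← ht]; exact Nat.mul_div_cancel' ho
    have h3 : orderOf x * t = k := by
      have : p ^ a * (orderOf x * t) = p ^ a * k := by rw [← hk, ← h2]; ring
      exact Nat.eq_of_mul_eq_mul_left hp0 this
    exact orderOf_dvd_iff_pow_eq_one.1 ⟨t, h3.symm⟩
  have h2 := (card_le_card h1).trans (IsCyclic.card_pow_eq_one_le (α := C) hk0)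
  calc _ ≤ k * p ^ a := Nat.mul_le_mul_right _ h2
    _ = Fintype.card C := by rw [hk, mul_comm]

theorem sum_geom_le {p : ℕ} (hp : 2 ≤ p) (n : ℕ) :
    ∑ a ∈ Icc 1 n, (1 / (p : ℝ) ^ a) ≤ 1 / (p - 1 : ℝ) := by
  have hp1 : (1 : ℝ) < p := by exact_mod_cast (by omega : 1 < p)
  have h : ∀ n : ℕ, ∑ a ∈ Icc 1 n, (1 / (p : ℝ) ^ a) = (1 / (p - 1 : ℝ)) * (1 - 1 / (p : ℝ) ^ n) := by
    intro n
    induction' n with n ih
    · simp
    · rw [sum_Icc_succ_top (by omega), ih]
      have : (p : ℝ) - 1 ≠ 0 := by linarith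
      have h2 : (p : ℝ) ≠ 0 := by linarith
      field_simp
      ring
  rw [h n]
  have h1 : 0 ≤ 1 / (p - 1 : ℝ) := by
    apply div_nonneg zero_le_one; linarith
  have h2 : 0 ≤ 1 / (p : ℝ) ^ n := by positivity
  nlinarith

/-- the average of `log (N / orderOf x)` in a cyclic group of order `N` -/
theorem sum_log_index (C : Type*) [CommGroup C] [IsCyclic C] [Fintype C] :
    ∑ x : C, Real.log ((Fintype.card C / orderOf x : ℕ) : ℝ) ≤
      Fintype.card C * ∑ p ∈ (Fintype.card C).primeFactors, Real.log p / (p - 1 : ℝ) := by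
  classical
  set N := Fintype.card C with hN
  have hN0 : N ≠ 0 := Fintype.card_ne_zero
  have h1 : ∀ x : C, Real.log ((N / orderOf x : ℕ) : ℝ) = ∑ p ∈ N.primeFactors,
      ∑ a ∈ Icc 1 (N.factorization p), if p ^ a ∣ N / orderOf x then Real.log p else 0 := fun x =>
    log_eq_sum hN0 (Nat.div_dvd_of_dvd orderOf_dvd_card)
  simp_rw [h1]
  rw [sum_comm, mul_sum]
  refine sum_le_sum fun p hp => ?_
  have hpp := Nat.prime_of_mem_primeFactors hp
  have hlog : 0 ≤ Real.log (p : ℝ) := Real.log_natCast_nonneg p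
  rw [sum_comm]
  have h2 : ∀ a ∈ Icc 1 (N.factorization p),
      ∑ x : C, (if p ^ a ∣ N / orderOf x then Real.log (p : ℝ) else 0) ≤
        (N : ℝ) * Real.log p * (1 / (p : ℝ) ^ a) := by
    intro a ha
    rw [mem_Icc] at ha
    rw [← sum_filter, sum_const, nsmul_eq_mul]
    have hd : p ^ a ∣ Fintype.card C := (hpp.pow_dvd_iff_le_factorization hN0).2 ha.2
    have h3 := card_pow_dvd_index (C := C) hd
    have h4 : ((univ.filter fun x : C => p ^ a ∣ Fintype.card C / orderOf x).card : ℝ) * (p : ℝ) ^ a ≤ N := by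
      exact_mod_cast h3
    have hpos : (0 : ℝ) < (p : ℝ) ^ a := pow_pos (by exact_mod_cast hpp.pos) a
    have h5 : ((univ.filter fun x : C => p ^ a ∣ Fintype.card C / orderOf x).card : ℝ) ≤ N * (1 / (p : ℝ) ^ a) := by
      rw [mul_one_div, le_div_iff₀ hpos]; exact h4
    calc _ ≤ (N * (1 / (p : ℝ) ^ a)) * Real.log p := mul_le_mul_of_nonneg_right h5 hlog
      _ = (N : ℝ) * Real.log p * (1 / (p : ℝ) ^ a) := by ring
  refine (sum_le_sum h2).trans ?_
  rw [← mul_sum]
  calc (N : ℝ) * Real.log p * ∑ a ∈ Icc 1 (N.factorization p), 1 / (p : ℝ) ^ a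
      ≤ (N : ℝ) * Real.log p * (1 / (p - 1 : ℝ)) :=
        mul_le_mul_of_nonneg_left (sum_geom_le hpp.two_le _) (by positivity)
    _ = N * (Real.log p / (p - 1 : ℝ)) := by ring

/-- few elements of small order in a cyclic group of order `N` -/
theorem card_small_order_mul_log (C : Type*) [CommGroup C] [IsCyclic C] [Finite C] {L : ℝ} (hL : 1 ≤ L) :
    (Nat.card {x : C // L * orderOf x ≤ Nat.card C} : ℝ) * Real.log L ≤
      Nat.card C * (1 + Real.log ((Nat.card C).primeFactors.card + 1)) ^ 2 := by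
  classical
  let _ : Fintype C := Fintype.ofFinite C
  have h0 : ∀ x : C, 0 < orderOf x := fun x => orderOf_pos x
  have h1 := sum_log_index C
  have h2 := mul_le_mul_of_nonneg_left (sum_log_div (Fintype.card C)) (Nat.cast_nonneg (α := ℝ) (Fintype.card C))
  have hc : Nat.card C = Fintype.card C := Nat.card_eq_fintype_card
  rw [hc]
  refine le_trans ?_ (h1.trans h2)
  rw [Nat.card_eq_fintype_card, Fintype.card_subtype, ← nsmul_eq_mul, ← sum_const]
  have h3 : ∑ x ∈ univ.filter (fun x : C => L * orderOf x ≤ Fintype.card C), Real.log L ≤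
      ∑ x ∈ univ.filter (fun x : C => L * orderOf x ≤ Fintype.card C),
        Real.log ((Fintype.card C / orderOf x : ℕ) : ℝ) := by
    refine sum_le_sum fun x hx => ?_
    rw [mem_filter] at hx
    apply Real.log_le_log (by linarith)
    rw [Nat.cast_div orderOf_dvd_card (by exact_mod_cast (h0 x).ne'), le_div_iff₀ (by exact_mod_cast h0 x)]
    exact hx.2
  refine h3.trans (sum_le_sum_of_subset_of_nonneg (filter_subset _ _) fun x _ _ => ?_)
  exact Real.log_natCast_nonneg _

end Cfsg.Agent.H94.RG
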