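import Cfsg.Agent.H94.RG.CFam
import Cfsg.Agent.H858.RG.Large

/-!
# S5715 in unbounded rank: transfer of `CMix` to the named groups
-/

set_option autoImplicit false
set_option linter.unusedSectionVars false

namespace Cfsg.Agent.H94.RG.U

open Module Cfsg Cfsg.Agent.H50.RG Cfsg.Agent.H262.Rg.Asm Cfsg.Agent.H847.Bs Cfsg.Agent.OrdDiv Cfsg.Agent.H436
open Cfsg.Agent.H278.El.AltNum (dimOf)
open Cfsg.Agent.H851.Dg (BigCl)
open Cfsg.Agent.H548.BS (range_toLin' hermFrm isHerm spFrm isSp spHom spHom_injective range_spHom)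
open QuadraticMap Cfsg.Agent.LieClassical.OrthCore Cfsg.Agent.LieClassical.OrthTrans
  Cfsg.Agent.LieClassical.OrthFinite Cfsg.Agent.LieClassical.OrthForms
open Cfsg.Agent.H858.RG (Cov Cov.trans Cov.card_le cov_of_equiv cov_psl cov_psp cov_psu cov_pomega ker_mul_le ker_mul
  card_le_pow two_div_le)

section gen

variable {S T : Type*} [Group S] [Group T]

theorem CMix.mono {κ κ' ε : ℝ} (h : CMix T κ ε) (hκ : κ ≤ κ') : CMix T κ' ε := by
  obtain ⟨ι, hι, Z, R, h1, h2, h3⟩ := h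
  exact ⟨ι, hι, Z, R, h1, h2.trans hκ, h3⟩

theorem CMix.of_cov [Finite S] {κ ε : ℝ} (hc : Cov S T) (h : CMix S κ ε) : CMix T κ ε := by
  obtain ⟨π, hπ⟩ := hc
  obtain ⟨ι, hι, Z, R, h1, h2, h3, h4⟩ := h
  refine ⟨ι, hι, fun i => (Z i).map π, R, h1, h2, fun i n ρ h0 => ?_, ?_⟩
  · let σ : Representation ℂ S (Fin n → ℂ) := MonoidHom.comp ρ π
    have hσ : ∀ s v, σ s v = ρ (π s) v := fun _ _ => rfl
    have e1 : fixd σ ⊤ = ⊥ := by
      rw [← h0]
      ext v
      constructor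
      · intro h g _
        obtain ⟨s, rfl⟩ := hπ g
        exact h s trivial
      · intro h g _
        exact h (π g) trivial
    have e2 : fixd σ (Z i) = fixd ρ ((Z i).map π) := by
      ext v
      constructor
      · rintro h g ⟨z, hz, rfl⟩
        exact h z hz
      · intro h z hz
        exact h (π z) ⟨z, hz, rfl⟩
    have h5 := h3 i n σ e1
    rw [e2] at h5
    exact h5
  · set P : T → Prop := fun t => ¬ ∃ (i : ι) (g : T), ∀ z ∈ (Z i).map π, g * z * g⁻¹ ∈ Subgroup.zpowers t with hP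
    have k1 := ker_mul_le π hπ P
    have k2 : Nat.card {s : S // P (π s)} ≤ Nat.card {s : S // ¬ ∃ (i : ι) (g : S), ∀ z ∈ Z i,
        g * z * g⁻¹ ∈ Subgroup.zpowers s} := by
      refine Nat.card_le_card_of_injective (fun s : {s : S // P (π s)} =>
        (⟨s.1, fun h => s.2 ?_⟩ : {s : S // ¬ ∃ (i : ι) (g : S), ∀ z ∈ Z i, g * z * g⁻¹ ∈ Subgroup.zpowers s}))
        fun a b hab => Subtype.ext (congrArg (fun x : {s : S // ¬ ∃ (i : ι) (g : S), ∀ z ∈ Z i,
          g * z * g⁻¹ ∈ Subgroup.zpowers s} => x.1) hab)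
      obtain ⟨i, g, hg⟩ := h
      refine ⟨i, π g, ?_⟩
      rintro _ ⟨z, hz, rfl⟩
      obtain ⟨k, hk⟩ := Subgroup.mem_zpowers_iff.1 (hg z hz)
      refine Subgroup.mem_zpowers_iff.2 ⟨k, ?_⟩
      rw [← map_zpow, hk]
      simp
    have k3 : ((Nat.card π.ker * Nat.card {t : T // P t} : ℕ) : ℝ) ≤ ε * Nat.card S :=
      (by exact_mod_cast k1.trans k2 : ((Nat.card π.ker * Nat.card {t : T // P t} : ℕ) : ℝ) ≤ _).trans h4
    rw [← ker_mul π hπ] at k3
    push_cast at k3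
    have k4 : (0 : ℝ) < Nat.card π.ker := by exact_mod_cast Nat.card_pos
    have k5 : (Nat.card π.ker : ℝ) * Nat.card {t : T // P t} ≤ Nat.card π.ker * (ε * Nat.card T) := by
      linarith
    exact le_of_mul_le_mul_left k5 k4

end gen

/-- large dimension: `CMix` with `κ = (log |T|)^(-A)` -/
def LargeC (P : Grp → Prop) : Prop :=
  ∀ (A : ℕ) (ε : ℝ), 0 < ε → ∃ N : ℕ, ∀ (g : Grp) (T : Type) [Group T] [Finite T] [IsSimpleGroup T],
    IsNamed g T → P g → N ≤ dimOf g → CMix T (1 / (lg T : ℝ) ^ A) ε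

theorem LargeC.or {P Q : Grp → Prop} (hP : LargeC P) (hQ : LargeC Q) : LargeC fun g => P g ∨ Q g := by
  intro A ε hε
  obtain ⟨N, hN⟩ := hP A ε hε
  obtain ⟨N', hN'⟩ := hQ A ε hε
  refine ⟨max N N', fun g T _ _ _ hT hg h => ?_⟩
  rcases hg with hg | hg
  · exact hN g T hT hg ((le_max_left _ _).trans h)
  · exact hN' g T hT hg ((le_max_right _ _).trans h)

theorem LargeC.mono {P Q : Grp → Prop} (hQ : LargeC Q) (h : ∀ g, P g → Q g) : LargeC P := by
  intro A ε hε
  obtain ⟨N, hN⟩ := hQ A ε hε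
  exact ⟨N, fun g T _ _ _ hT hg => hN g T hT (h g hg)⟩

section lin

variable {F V : Type} [Field F] [Finite F] [AddCommGroup V] [Module F V] [Module.Finite F V]

/-- along a covering and an isomorphism -/
theorem cmix_of_cov (G : Subgroup (V ≃ₗ[F] V)) {T T' : Type} [Group T] [Finite T] [IsSimpleGroup T] [Group T']
    (hc : Cov G T') (e : T ≃* T') {A : ℕ} {ε : ℝ}
    (hb : CMix G (1 / ((finrank F V : ℝ) ^ 2 * Real.log (Nat.card F)) ^ (A + 1)) ε)
    (hn : 2 ^ (A + 2) ≤ finrank F V) : CMix T (1 / (lg T : ℝ) ^ A) ε := by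
  have : Finite V := Module.finite_of_finite F
  have : Finite (V ≃ₗ[F] V) := finite_equiv
  have : Nontrivial T := IsSimpleGroup.toNontrivial
  have hc' : Cov G T := hc.trans (cov_of_equiv e.symm)
  have h1 := two_div_le (T := T) ((hc'.card_le).trans (card_le_pow G)) Finite.one_lt_card hn
  refine (CMix.of_cov hc' hb).mono (le_trans ?_ h1.2)
  exact div_le_div_of_nonneg_right (by norm_num) h1.1.le

end lin

theorem large_psl (h : CSL) : LargeC fun g => ∃ n q, g = .psl n q := by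
  intro A ε hε
  obtain ⟨N, hN⟩ := h ε (A + 1) hε
  refine ⟨N + 2 ^ (A + 2), ?_⟩
  rintro g T _ _ _ hT ⟨n, q, rfl⟩ hn
  obtain ⟨F, _, _, hF, ⟨e⟩⟩ := hT.real
  have hd : finrank F (Fin n → F) = n := finrank_fin_fun F
  have hn' : N + 2 ^ (A + 2) ≤ finrank F (Fin n → F) := by rw [hd]; exact hn
  exact cmix_of_cov _ cov_psl e (hN F (Fin n → F) ((Nat.le_add_right _ _).trans hn')) ((Nat.le_add_left _ _).trans hn')

theorem large_psp (h : CSp) : LargeC fun g => ∃ n q, g = .psp n q := by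
  intro A ε hε
  obtain ⟨N, hN⟩ := h ε (A + 1) hε
  refine ⟨N + 2 ^ (A + 2), ?_⟩
  rintro g T _ _ _ hT ⟨m, q, rfl⟩ hn
  obtain ⟨F, _, _, hF, ⟨e⟩⟩ := hT.real
  have hn' : N + 2 ^ (A + 2) ≤ finrank F (Fin m ⊕ Fin m → F) := by
    rw [finrank_fintype_fun_eq_card, Fintype.card_sum, Fintype.card_fin, ← two_mul]
    exact hn
  exact cmix_of_cov _ cov_psp e (hN F _ (spFrm m) (isSp m) ((Nat.le_add_right _ _).trans hn')) ((Nat.le_add_left _ _).trans hn')

theorem large_psu (h : CSU) : LargeC fun g => ∃ n q, g = .psu n q := by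
  intro A ε hε
  obtain ⟨N, hN⟩ := h ε (A + 1) hε
  refine ⟨N + 2 ^ (A + 2), ?_⟩
  rintro g T _ _ _ hT ⟨n, q, rfl⟩ hn
  obtain ⟨F, _, _, hF, ⟨e⟩⟩ := hT.real
  have hn' : N + 2 ^ (A + 2) ≤ finrank F (Fin n → F) := by rw [finrank_fin_fun]; exact hn
  exact cmix_of_cov _ (cov_psu hF) e (hN F (Fin n → F) q (hermFrm n hF) (isHerm n hF) ((Nat.le_add_right _ _).trans hn')) ((Nat.le_add_left _ _).trans hn')

theorem large_orth (h : COm) : LargeC fun g => (∃ m q, g = .oodd m q) ∨ (∃ m q, g = .oplus m q) ∨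
    (∃ m q, g = .ominus m q) := by
  intro A ε hε
  obtain ⟨N, hN⟩ := h ε (A + 1) hε
  refine ⟨N + 2 ^ (A + 2), ?_⟩
  rintro g T _ _ _ hT (⟨m, q, rfl⟩ | ⟨m, q, rfl⟩ | ⟨m, q, rfl⟩) hn
  · obtain ⟨F, _, _, hF, ⟨e⟩⟩ := hT.real
    have ho : Odd q := hT.cond.2.1
    have hm : 3 ≤ m := hT.cond.1
    have h2 : (2 : F) ≠ 0 := by
      intro h2
      have h3' : CharP F 2 := by
        refine (CharP.charP_iff_prime_eq_zero Nat.prime_two).2 ?_
        exact_mod_cast h2
      have h3 : ringChar F = 2 := ringChar.eq_iff.2 h3'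
      have h4 := FiniteField.even_card_iff_char_two.1 h3
      rw [hF] at h4
      have := Nat.odd_iff.1 ho
      omega
    have hQ := nondeg_oddForm (F := F) (m := m) h2
    have hcard : Fintype.card (Unit ⊕ (Fin m ⊕ Fin m)) = 2 * m + 1 := by
      rw [Fintype.card_sum, Fintype.card_sum, Fintype.card_fin, Fintype.card_unit]; omega
    have hG : Good (oddForm m F) := good_of_finite hQ (by rw [finrank_fintype_fun_eq_card, hcard]; omega)
    have hn' : N + 2 ^ (A + 2) ≤ finrank F (Unit ⊕ (Fin m ⊕ Fin m) → F) := by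
      rw [finrank_fintype_fun_eq_card, hcard]; exact hn
    have hc := cov_pomega hG
    rw [coe_oddForm] at hc
    exact cmix_of_cov _ hc e (hN F _ (oddForm m F) hQ ((Nat.le_add_right _ _).trans hn')) ((Nat.le_add_left _ _).trans hn')
  · obtain ⟨F, _, _, hF, ⟨e⟩⟩ := hT.real
    have hm : 4 ≤ m := hT.cond.1
    have hQ := nondeg_plusForm (F := F) (m := m)
    have hcard : Fintype.card (Fin m ⊕ Fin m) = 2 * m := by
      rw [Fintype.card_sum, Fintype.card_fin]; omega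
    have hG : Good (plusForm m F) := good_of_finite hQ (by rw [finrank_fintype_fun_eq_card, hcard]; omega)
    have hn' : N + 2 ^ (A + 2) ≤ finrank F (Fin m ⊕ Fin m → F) := by
      rw [finrank_fintype_fun_eq_card, hcard]; exact hn
    have hc := cov_pomega hG
    rw [coe_plusForm] at hc
    exact cmix_of_cov _ hc e (hN F _ (plusForm m F) hQ ((Nat.le_add_right _ _).trans hn')) ((Nat.le_add_left _ _).trans hn')
  · obtain ⟨F, _, _, a, b, hF, hab, ⟨e⟩⟩ := hT.real
    have hm : 4 ≤ m := hT.cond.1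
    have hQ := nondeg_minusForm (F := F) (m := m - 1) a b hab
    have hcard : Fintype.card ((Fin (m - 1) ⊕ Fin (m - 1)) ⊕ Fin 2) = 2 * m := by
      rw [Fintype.card_sum, Fintype.card_sum, Fintype.card_fin, Fintype.card_fin]; omega
    have hG : Good (minusForm (m - 1) F a b) :=
      good_of_finite hQ (by rw [finrank_fintype_fun_eq_card, hcard]; omega)
    have hn' : N + 2 ^ (A + 2) ≤ finrank F ((Fin (m - 1) ⊕ Fin (m - 1)) ⊕ Fin 2 → F) := by
      rw [finrank_fintype_fun_eq_card, hcard]; exact hn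
    have hc := cov_pomega hG
    rw [coe_minusForm] at hc
    exact cmix_of_cov _ hc e (hN F _ (minusForm (m - 1) F a b) hQ ((Nat.le_add_right _ _).trans hn')) ((Nat.le_add_left _ _).trans hn')

/-- all classical names -/
theorem large_c (h1 : CSL) (h2 : CSp) (h3 : CSU) (h4 : COm) : LargeC BigCl := by
  refine LargeC.mono (LargeC.or (LargeC.or (large_psl h1) (large_psp h2))
    (LargeC.or (large_psu h3) (large_orth h4))) fun g hg => ?_
  cases g with
  | psl n q => exact Or.inl (Or.inl ⟨n, q, rfl⟩)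
  | psp n q => exact Or.inl (Or.inr ⟨n, q, rfl⟩)
  | psu n q => exact Or.inr (Or.inl ⟨n, q, rfl⟩)
  | oodd n q => exact Or.inr (Or.inr (Or.inl ⟨n, q, rfl⟩))
  | oplus n q => exact Or.inr (Or.inr (Or.inr (Or.inl ⟨n, q, rfl⟩)))
  | ominus n q => exact Or.inr (Or.inr (Or.inr (Or.inr ⟨n, q, rfl⟩)))
  | _ => exact hg.elim

end Cfsg.Agent.H94.RG.U
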